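import Mathlib

/-!
# Symmetry of Weil polynomials and p-adic unit roots
-/

set_option autoImplicit false
noncomputable section

open Polynomial

namespace Groth.Agent.WeilNumLib

lemma eval_zero_pos {g : ℝ[X]} (hm : g.Monic) (hd : 0 < g.natDegree) (hroot : ∀ x, g.eval x ≠ 0) :
    0 < g.eval 0 := by
  by_contra hle
  push Not at hle
  have ht := g.tendsto_atTop_of_leadingCoeff_nonneg (natDegree_pos_iff_degree_pos.mp hd) (by rw [hm.leadingCoeff]; exact zero_le_one)
  obtain ⟨x, hx, hx0⟩ := ((ht.eventually_ge_atTop 0).and (Filter.eventually_ge_atTop 0)).exists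
  obtain ⟨y, -, hy⟩ := intermediate_value_Icc hx0 g.continuous.continuousOn ⟨hle, hx⟩
  exact hroot y hy

/-- The constant coefficient of a monic integer polynomial with all roots of absolute value `√q`. -/
lemma abs_coeff_zero {P : ℤ[X]} (hP : P.Monic) {q : ℕ}
    (hz : ∀ z ∈ P.aroots ℂ, ‖z‖ = Real.sqrt q) : (|P.coeff 0| : ℝ) = Real.sqrt q ^ P.natDegree := by
  have hs : (P.map (algebraMap ℤ ℂ)).Splits := IsAlgClosed.splits _
  have h := hs.coeff_zero_eq_prod_roots_of_monic (hP.map _)
  rw [coeff_map] at h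
  have hn := congrArg norm h
  rw [norm_mul, norm_pow, norm_neg, norm_one, one_pow, one_mul] at hn
  have hcard : Multiset.card (P.map (algebraMap ℤ ℂ)).roots = P.natDegree := by
    rw [← hs.natDegree_eq_card_roots, hP.natDegree_map]
  have hprod : ‖(P.map (algebraMap ℤ ℂ)).roots.prod‖ = Real.sqrt q ^ P.natDegree := by
    rw [show ‖(P.map (algebraMap ℤ ℂ)).roots.prod‖ = ((P.map (algebraMap ℤ ℂ)).roots.map norm).prod from
      map_multiset_prod (normHom : ℂ →*₀ ℝ) _]
    rw [Multiset.map_congr rfl (fun z hz' => hz z hz'), Multiset.map_const', Multiset.prod_replicate, hcard]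
  rw [hprod] at hn
  rw [← hn]
  simp

/-- The coefficients of an irreducible Weil polynomial without real roots are symmetric. -/
theorem symm_nonreal {P : ℤ[X]} (hP : P.Monic) (hirr : Irreducible P) {q : ℕ}
    (hz : ∀ z ∈ P.aroots ℂ, ‖z‖ = Real.sqrt q) (hnr : ∀ z ∈ P.aroots ℂ, z.im ≠ 0) :
    Even P.natDegree ∧ ∀ r ≤ P.natDegree / 2,
      P.coeff (P.natDegree / 2 - r) = (q : ℤ) ^ r * P.coeff (P.natDegree / 2 + r) := by
  have hn0 : 0 < P.natDegree := hP.natDegree_pos.mpr fun h => hirr.not_isUnit (h ▸ isUnit_one)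
  have hmem : ∀ z : ℂ, aeval z P = 0 → z ∈ P.aroots ℂ := fun z h => mem_aroots.mpr ⟨hP.ne_zero, h⟩
  let g : ℝ[X] := P.map (algebraMap ℤ ℝ)
  have hgroot : ∀ x, g.eval x ≠ 0 := by
    intro x hx
    refine hnr (x : ℂ) (hmem _ ?_) (Complex.ofReal_im x)
    rw [show (x : ℂ) = algebraMap ℝ ℂ x from rfl, aeval_algebraMap_apply, aeval_def, ← eval_map,
      show (P.map (algebraMap ℤ ℝ)).eval x = 0 from hx, map_zero]
  have hgm : g.Monic := hP.map _
  have hgd : g.natDegree = P.natDegree := hP.natDegree_map _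
  have hpos := eval_zero_pos hgm (hgd ▸ hn0) hgroot
  have heven : Even P.natDegree := by
    rw [← Nat.not_odd_iff_even]
    intro hodd
    have hlead : (-(g.comp (-X))).Monic := by
      rw [Monic, leadingCoeff_neg, leadingCoeff_comp (by simp), hgm.leadingCoeff, leadingCoeff_neg,
        leadingCoeff_X, hgd, hodd.neg_one_pow]
      ring
    have hd : 0 < (-(g.comp (-X))).natDegree := by
      rw [natDegree_neg, natDegree_comp, natDegree_neg, natDegree_X, mul_one, hgd]; exact hn0
    have := eval_zero_pos hlead hd fun x => by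
      simp [eval_comp, hgroot]
    simp [eval_comp] at this
    linarith
  refine ⟨heven, ?_⟩
  obtain ⟨d, hd⟩ := heven
  have ha0 : P.coeff 0 = (q : ℤ) ^ d := by
    have h := abs_coeff_zero hP hz
    rw [hd, ← two_mul, pow_mul, Real.sq_sqrt (Nat.cast_nonneg _)] at h
    have hpos' : (0 : ℝ) < P.coeff 0 := by
      simpa [g, ← coeff_zero_eq_eval_zero] using hpos
    rw [abs_of_pos hpos'] at h
    exact_mod_cast h
  let Q : ℤ[X] := ∑ j ∈ Finset.range (P.natDegree + 1), C (P.coeff j * (q : ℤ) ^ j) * X ^ (P.natDegree - j)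
  obtain ⟨z, hzP⟩ : ∃ z : ℂ, aeval z P = 0 :=
    IsAlgClosed.exists_aeval_eq_zero ℂ P (degree_ne_of_natDegree_ne hn0.ne') 
  have hzint : IsIntegral ℤ z := ⟨P, hP, hzP⟩
  have hmin : minpoly ℤ z = P := by
    have hdvd := minpoly.isIntegrallyClosed_dvd hzint hzP
    exact eq_of_monic_of_associated (minpoly.monic hzint) hP
      (((minpoly.irreducible hzint).dvd_irreducible_iff_associated hirr).mp hdvd)
  have hzz : (q : ℂ) = z * (starRingEnd ℂ) z := by
    rw [Complex.mul_conj']
    rw [hz z (hmem z hzP)]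
    norm_cast
    rw [Real.sq_sqrt (Nat.cast_nonneg _)]
  have hQz : aeval z Q = 0 := by
    have e : aeval z Q = z ^ P.natDegree * aeval ((starRingEnd ℂ) z) P := by
      rw [map_sum, aeval_eq_sum_range, Finset.mul_sum]
      refine Finset.sum_congr rfl fun j hj => ?_
      rw [map_mul, aeval_C, map_pow, aeval_X, zsmul_eq_mul]
      simp only [algebraMap_int_eq, eq_intCast, Int.cast_mul, Int.cast_pow, Int.cast_natCast]
      rw [hzz, mul_pow, ← Nat.add_sub_cancel' (Finset.mem_range_succ_iff.mp hj), Nat.add_sub_cancel_left, pow_add]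
      ring
    rw [e, show (starRingEnd ℂ) z = (Complex.conjAe.toAlgHom.restrictScalars ℤ) z from rfl, aeval_algHom_apply, hzP, map_zero, mul_zero]
  have hQdeg : Q.natDegree ≤ P.natDegree := natDegree_sum_le_of_forall_le _ _ fun j _ =>
    (natDegree_C_mul_X_pow_le _ _).trans (Nat.sub_le _ _)
  have hQc : ∀ j ≤ P.natDegree, Q.coeff (P.natDegree - j) = P.coeff j * (q : ℤ) ^ j := by
    intro j hj
    simp only [Q, finsetSum_coeff, coeff_C_mul_X_pow]
    rw [Finset.sum_eq_single j]
    · rw [if_pos rfl]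
    · intro i hi hij
      rw [if_neg]
      intro h
      have := Finset.mem_range_succ_iff.mp hi
      omega
    · intro h
      exact absurd (Finset.mem_range_succ_iff.mpr hj) h
  obtain ⟨c, hc⟩ := hmin ▸ minpoly.isIntegrallyClosed_dvd hzint hQz
  have hcC : c = C (c.coeff 0) := by
    refine eq_C_of_natDegree_eq_zero ?_
    by_cases hc0 : c = 0
    · simp [hc0]
    have := natDegree_mul hP.ne_zero hc0
    rw [← hc] at this
    omega
  have hc0 : c.coeff 0 = P.coeff 0 := by
    have h := hQc 0 (Nat.zero_le _)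
    rw [hc, hcC, Nat.sub_zero, coeff_mul_C, hP.coeff_natDegree, one_mul, pow_zero, mul_one] at h
    exact h
  intro r hr
  have hd2 : P.natDegree / 2 = d := by omega
  rw [hd2] at hr ⊢
  have h := hQc (d - r) (by omega)
  rw [hc, hcC, coeff_mul_C, hc0, ha0, show P.natDegree - (d - r) = d + r by omega] at h
  have hq : (q : ℤ) ≠ 0 := by
    intro hq
    have hd0 : d ≠ 0 := by omega
    rw [hq, zero_pow hd0] at ha0
    exact hgroot 0 (by rw [← coeff_zero_eq_eval_zero, coeff_map, ha0, map_zero])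
  refine mul_left_cancel₀ (pow_ne_zero (d - r) hq) ?_
  rw [mul_comm, ← h, ← mul_assoc, ← pow_add, Nat.sub_add_cancel hr, mul_comm]

/-- Newton polygon at slope zero: the first unit coefficient counts the roots of norm `< 1`. -/
theorem prod_X_sub_C_coeff {K : Type*} [NormedField K] [IsUltrametricDist K] (s : Multiset K)
    (hs : ∀ z ∈ s, ‖z‖ ≤ 1) :
    (∀ j, ‖((s.map fun z => X - C z).prod).coeff j‖ ≤ 1) ∧
      (∀ j < Multiset.card (s.filter fun z => ‖z‖ < 1), ‖((s.map fun z => X - C z).prod).coeff j‖ < 1) ∧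
      ‖((s.map fun z => X - C z).prod).coeff (Multiset.card (s.filter fun z => ‖z‖ < 1))‖ = 1 := by
  classical
  induction s using Multiset.induction with
  | empty =>
    refine ⟨fun j => ?_, fun j hj => by simp at hj, by simp⟩
    rcases j with _ | j <;> simp [coeff_one]
  | cons z s ih =>
    obtain ⟨h1, h2, h3⟩ := ih fun w hw => hs w (Multiset.mem_cons_of_mem hw)
    have hz := hs z (Multiset.mem_cons_self z s)
    set F := (s.map fun z => X - C z).prod
    set m := Multiset.card (s.filter fun z => ‖z‖ < 1)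
    rw [Multiset.map_cons, Multiset.prod_cons]
    have c0 : ((X - C z) * F).coeff 0 = -(z * F.coeff 0) := by simp [sub_mul]
    have cs : ∀ j, ((X - C z) * F).coeff (j + 1) = F.coeff j - z * F.coeff (j + 1) := fun j => by simp [sub_mul]
    have hmul : ∀ j, ‖z * F.coeff j‖ ≤ 1 := fun j => by
      rw [norm_mul]; exact mul_le_one₀ hz (norm_nonneg _) (h1 j)
    have hsub : ∀ a b : K, ∀ t, ‖a‖ ≤ t → ‖b‖ ≤ t → ‖a - b‖ ≤ t := fun a b t ha hb => by
      rw [sub_eq_add_neg]
      exact (IsUltrametricDist.norm_add_le_max _ _).trans (max_le ha (by rwa [norm_neg]))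
    have hsub' : ∀ a b : K, ‖a‖ < 1 → ‖b‖ < 1 → ‖a - b‖ < 1 := fun a b ha hb => by
      rw [sub_eq_add_neg]
      exact (IsUltrametricDist.norm_add_le_max _ _).trans_lt (max_lt ha (by rwa [norm_neg]))
    refine ⟨fun j => ?_, ?_⟩
    · rcases j with _ | j
      · rw [c0, norm_neg]; exact hmul 0
      · rw [cs]; exact hsub _ _ _ (h1 j) (hmul _)
    by_cases hzu : ‖z‖ < 1
    · have hlt : ∀ j, ‖z * F.coeff j‖ < 1 := fun j => by
        rw [norm_mul]; exact (mul_le_of_le_one_right (norm_nonneg _) (h1 j)).trans_lt hzu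
      rw [Multiset.filter_cons_of_pos (p := fun z : K => ‖z‖ < 1) _ hzu, Multiset.card_cons]
      refine ⟨fun j hj => ?_, ?_⟩
      · rcases j with _ | j
        · rw [c0, norm_neg]; exact hlt 0
        · rw [cs]; exact hsub' _ _ (h2 j (Nat.lt_of_succ_lt_succ hj)) (hlt _)
      · rw [cs, sub_eq_add_neg, IsUltrametricDist.norm_add_eq_max_of_norm_ne_norm (by rw [h3, norm_neg]; exact (hlt _).ne'),
          h3, norm_neg, max_eq_left (hlt _).le]
    · have hz1 : ‖z‖ = 1 := le_antisymm hz (not_lt.mp hzu)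
      rw [Multiset.filter_cons_of_neg (p := fun z : K => ‖z‖ < 1) _ hzu]
      refine ⟨fun j hj => ?_, ?_⟩
      · rcases j with _ | j
        · rw [c0, norm_neg, norm_mul, hz1, one_mul]; exact h2 0 hj
        · rw [cs]; exact hsub' _ _ (h2 j (by omega)) (by rw [norm_mul, hz1, one_mul]; exact h2 _ hj)
      · change ‖((X - C z) * F).coeff m‖ = 1
        rcases hm : m with _ | k
        · rw [hm] at h3; rw [c0, norm_neg, norm_mul, hz1, h3, one_mul]
        · rw [hm] at h2 h3
          have hk := h2 k (Nat.lt_succ_self k)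
          rw [cs, sub_eq_add_neg, IsUltrametricDist.norm_add_eq_max_of_norm_ne_norm (by rw [norm_neg, norm_mul, hz1, h3, one_mul]; exact hk.ne),
            norm_neg, norm_mul, hz1, h3, one_mul, max_eq_right hk.le]

/-- `p`-adic unit roots of a monic integer polynomial. -/
theorem padic_roots {p : ℕ} [Fact p.Prime] {P : ℤ[X]} (hP : P.Monic) :
    ∃ m, m + Multiset.card ((P.aroots (PadicAlgCl p)).filter fun z => ‖z‖ = 1) = P.natDegree ∧
      (∀ j < m, (p : ℤ) ∣ P.coeff j) ∧ ¬ (p : ℤ) ∣ P.coeff m := by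
  classical
  have hnorm : ∀ k : ℤ, ‖(k : PadicAlgCl p)‖ = ‖(k : ℚ_[p])‖ := fun k => by
    rw [← PadicAlgCl.norm_extends p (k : ℚ_[p]), map_intCast]
  have hlt : ∀ k : ℤ, ‖(k : PadicAlgCl p)‖ < 1 ↔ (p : ℤ) ∣ k := fun k => by
    rw [hnorm, Padic.norm_intCast_lt_one_iff]
  let f := P.map (algebraMap ℤ (PadicAlgCl p))
  have hs : f.Splits := IsAlgClosed.splits _
  have hle : ∀ z ∈ f.roots, ‖z‖ ≤ 1 := by
    intro z hz
    have h0 : aeval z P = 0 := (mem_aroots.mp hz).2
    by_contra hgt
    push Not at hgt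
    rw [aeval_eq_sum_range, Finset.sum_range_succ, hP.coeff_natDegree, one_smul, add_eq_zero_iff_neg_eq] at h0
    have hn : 0 < P.natDegree := by
      by_contra h
      rw [show P.natDegree = 0 by omega] at h0
      simp at h0
    have hb : ‖∑ i ∈ Finset.range P.natDegree, P.coeff i • z ^ i‖ ≤ ‖z‖ ^ (P.natDegree - 1) := by
      refine IsUltrametricDist.norm_sum_le_of_forall_le_of_nonneg (by positivity) fun i hi => ?_
      rw [zsmul_eq_mul, norm_mul, norm_pow, hnorm]
      refine (mul_le_of_le_one_left (by positivity) (Padic.norm_int_le_one _)).trans ?_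
      exact pow_le_pow_right₀ hgt.le (by have := Finset.mem_range.mp hi; omega)
    rw [← norm_neg, h0, norm_pow] at hb
    exact absurd hb (not_le.mpr (pow_lt_pow_right₀ hgt (by omega)))
  obtain ⟨h1, h2, h3⟩ := prod_X_sub_C_coeff f.roots hle
  rw [← hs.eq_prod_roots_of_monic (hP.map _)] at h1 h2 h3
  refine ⟨Multiset.card (f.roots.filter fun z => ‖z‖ < 1), ?_, fun j hj => ?_, fun h => ?_⟩
  · rw [← Multiset.card_add, ← hP.natDegree_map (algebraMap ℤ (PadicAlgCl p)), hs.natDegree_eq_card_roots]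
    show Multiset.card (f.roots.filter _ + f.roots.filter _) = _
    rw [Multiset.filter_congr (q := fun z => ¬ ‖z‖ < 1) (fun z hz => ⟨fun h => by rw [h]; exact lt_irrefl 1, fun h => le_antisymm (hle z hz) (not_lt.mp h)⟩),
      Multiset.filter_add_not]
  · have := h2 j hj
    rw [coeff_map, eq_intCast, hlt] at this
    exact this
  · rw [coeff_map, eq_intCast] at h3
    exact ((hlt _).mpr h).ne h3

end Groth.Agent.WeilNumLib
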