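import Groth.Agent.WeilNumLib.Symm

/-!
# The minimal central order `ℤ[F, V]/(FV - q, h)` of a family of Weil numbers
-/

set_option autoImplicit false
noncomputable section

open MvPolynomial
open scoped Pointwise

universe u

namespace Groth.Agent.WeilNumLib

local notation "R2" => MvPolynomial (Fin 2) ℤ

/-- `F V - q`. -/
def fv (q : ℤ) : MvPolynomial (Fin 2) ℤ := X 0 * X 1 - C q

/-- Every polynomial is, after multiplying by a power of `F`, a polynomial in `F` modulo `F V - q`. -/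
theorem exists_reduce (q : ℤ) (g : R2) :
    ∃ (N : ℕ) (G : Polynomial ℤ), X 0 ^ N * g - Polynomial.aeval (X 0 : R2) G ∈ Ideal.span {fv q} := by
  induction g using MvPolynomial.induction_on with
  | C a => exact ⟨0, Polynomial.C a, by simp⟩
  | add f g hf hg =>
    obtain ⟨M, F, hF⟩ := hf
    obtain ⟨N, G, hG⟩ := hg
    refine ⟨M + N, Polynomial.X ^ N * F + Polynomial.X ^ M * G, ?_⟩
    have := add_mem (Ideal.mul_mem_left _ (X 0 ^ N) hF) (Ideal.mul_mem_left _ (X 0 ^ M) hG)
    convert this using 1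
    simp only [map_add, map_mul, map_pow, Polynomial.aeval_X, pow_add]
    ring
  | mul_X f n hf =>
    obtain ⟨M, F, hF⟩ := hf
    fin_cases n
    · refine ⟨M, F * Polynomial.X, ?_⟩
      have := Ideal.mul_mem_left _ (X 0) hF
      convert this using 1
      simp only [map_mul, Polynomial.aeval_X, Fin.zero_eta]
      ring
    · refine ⟨M + 1, F * Polynomial.C q, ?_⟩
      have := add_mem (Ideal.mul_mem_left _ (X 0 * X 1) hF)
        (Ideal.mul_mem_left _ (Polynomial.aeval (X 0 : R2) F) (Ideal.subset_span (Set.mem_singleton (fv q))))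
      convert this using 1
      simp [fv, pow_succ]
      ring

/-- A polynomial in `F` lying in `(F V - q)` is zero. -/
theorem eq_zero_of_aeval_mem {q : ℤ} (G : Polynomial ℤ)
    (h : Polynomial.aeval (X 0 : R2) G ∈ Ideal.span {fv q}) : G = 0 := by
  obtain ⟨c, hc⟩ := Ideal.mem_span_singleton'.mp h
  let φ : R2 →ₐ[ℤ] RatFunc ℚ := MvPolynomial.aeval ![RatFunc.X, (q : RatFunc ℚ) / RatFunc.X]
  have h0 : φ (fv q) = 0 := by
    simp [φ, fv, mul_div_cancel₀ _ (RatFunc.X_ne_zero (K := ℚ))]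
  have h1 := congrArg φ hc
  rw [map_mul, h0, mul_zero, ← Polynomial.aeval_algHom_apply] at h1
  have e : φ (X 0) = algebraMap (Polynomial ℚ) (RatFunc ℚ) Polynomial.X := by simp [φ]
  rw [e, Polynomial.aeval_algebraMap_apply, eq_comm, map_eq_zero_iff _ (RatFunc.algebraMap_injective ℚ),
    Polynomial.aeval_def] at h1
  refine Polynomial.map_injective (Int.castRingHom ℚ) Int.cast_injective ?_
  rw [Polynomial.map_zero, ← h1, Polynomial.map]
  congr 1

/-- `ℤ[F, V] → ℤ[Y]`, `F ↦ 0`, `V ↦ Y`. -/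
def ev0 : R2 →ₐ[ℤ] Polynomial ℤ := MvPolynomial.aeval ![0, Polynomial.X]

theorem sub_mem_span_X (w : R2) : w - Polynomial.aeval (X 1 : R2) (ev0 w) ∈ Ideal.span {(X 0 : R2)} := by
  induction w using MvPolynomial.induction_on with
  | C a => simp [ev0]
  | add f g hf hg => simpa [add_sub_add_comm] using add_mem hf hg
  | mul_X f n hf =>
    fin_cases n
    · have := Ideal.mem_span_singleton_self (X 0 : R2)
      simpa [ev0] using Ideal.mul_mem_left _ f this
    · have := Ideal.mul_mem_right (X 1 : R2) _ hf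
      simpa [ev0, sub_mul] using this

theorem exists_decomp (w : R2) : ∃ w', w = Polynomial.aeval (X 1 : R2) (ev0 w) + X 0 * w' := by
  obtain ⟨c, hc⟩ := Ideal.mem_span_singleton'.mp (sub_mem_span_X w)
  exact ⟨c, by linear_combination -hc⟩

/-- `F` is a non-zero-divisor modulo `F V - q`. -/
theorem cancel_fv {q : ℤ} (hq : q ≠ 0) (x : R2) (hx : X 0 * x ∈ Ideal.span {fv q}) : x ∈ Ideal.span {fv q} := by
  obtain ⟨y, hy⟩ := Ideal.mem_span_singleton'.mp hx
  have h0 := congrArg ev0 hy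
  rw [map_mul, map_mul, show ev0 (X 0) = 0 by simp [ev0], zero_mul,
    show ev0 (fv q) = Polynomial.C (-q) by simp [ev0, fv]] at h0
  have hy0 : ev0 y = 0 := (mul_eq_zero.mp h0).resolve_right (by simpa using hq)
  obtain ⟨y', hy'⟩ := exists_decomp y
  rw [hy0, map_zero, zero_add] at hy'
  refine Ideal.mem_span_singleton'.mpr ⟨y', mul_left_cancel₀ (MvPolynomial.X_ne_zero 0) ?_⟩
  rw [← hy, hy']; ring

theorem cancel_pow {I : Ideal R2} (hc : ∀ x, X 0 * x ∈ I → x ∈ I) : ∀ (n : ℕ) (x : R2), X 0 ^ n * x ∈ I → x ∈ I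
  | 0, x, h => by simpa using h
  | n + 1, x, h => cancel_pow hc n x (hc _ (by rw [← mul_assoc, ← pow_succ']; exact h))

section

variable {ι : Type} [Fintype ι] {K : ι → Type u} [∀ i, Field (K i)] [∀ i, CharZero (K i)] (π : ∀ i, K i)
  (hint : ∀ i, IsIntegral ℤ (π i))

include hint

theorem prod_minpoly_dvd (hinj : ∀ i j, minpoly ℤ (π i) = minpoly ℤ (π j) → i = j) (G : Polynomial ℤ)
    (hG : ∀ i, Polynomial.aeval (π i) G = 0) : ∏ i, minpoly ℤ (π i) ∣ G := by
  refine Finset.prod_dvd_of_isRelPrime (fun i _ j _ hij => ?_) fun i _ => minpoly.isIntegrallyClosed_dvd (hint i) (hG i)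
  refine (minpoly.irreducible (hint i)).isRelPrime_iff_not_dvd.mpr fun h => hij (hinj i j ?_)
  exact Polynomial.eq_of_monic_of_associated (minpoly.monic (hint i)) (minpoly.monic (hint j))
    ((minpoly.irreducible (hint i)).associated_of_dvd (minpoly.irreducible (hint j)) h)

variable {q : ℕ} (hq : 0 < q) (hweil : ∀ i, ∀ z ∈ (minpoly ℤ (π i)).aroots ℂ, ‖z‖ = Real.sqrt q)

include hq hweil

theorem pi_ne_zero (i : ι) : π i ≠ 0 := by
  intro h
  have hP : minpoly ℤ (π i) = Polynomial.X := by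
    have hd : minpoly ℤ (π i) ∣ Polynomial.X := minpoly.isIntegrallyClosed_dvd (hint i) (by simp [h])
    exact Polynomial.eq_of_monic_of_associated (minpoly.monic (hint i)) Polynomial.monic_X
      ((minpoly.irreducible (hint i)).associated_of_dvd Polynomial.irreducible_X hd)
  have := hweil i 0 (Polynomial.mem_aroots.mpr ⟨minpoly.ne_zero (hint i), by rw [hP]; simp⟩)
  rw [norm_zero, eq_comm, Real.sqrt_eq_zero (Nat.cast_nonneg _), Nat.cast_eq_zero] at this
  omega

/-- An element killed by all `F ↦ π i`, `V ↦ q / π i` is, up to a power of `F`, a multiple of `P_w(F)`. -/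
theorem exists_reduce_ker (hinj : ∀ i j, minpoly ℤ (π i) = minpoly ℤ (π j) → i = j) (g : R2)
    (hg : ∀ i, MvPolynomial.aeval ![π i, (q : K i) / π i] g = 0) :
    ∃ (N : ℕ) (Q : Polynomial ℤ),
      X 0 ^ N * g - Polynomial.aeval (X 0 : R2) ((∏ i, minpoly ℤ (π i)) * Q) ∈ Ideal.span {fv (q : ℤ)} := by
  obtain ⟨N, G, hG⟩ := exists_reduce (q : ℤ) g
  obtain ⟨Q, rfl⟩ := prod_minpoly_dvd π hint hinj G fun i => by
    obtain ⟨c, hc⟩ := Ideal.mem_span_singleton'.mp hG
    have h1 := congrArg (MvPolynomial.aeval ![π i, (q : K i) / π i]) hc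
    rw [map_sub, map_mul, map_mul, hg i, mul_zero, zero_sub, ← Polynomial.aeval_algHom_apply] at h1
    have h0 : MvPolynomial.aeval ![π i, (q : K i) / π i] (fv (q : ℤ)) = 0 := by
      simp [fv, mul_div_cancel₀ _ (pi_ne_zero π hint hq hweil i)]
    rw [h0, mul_zero, eq_comm, neg_eq_zero] at h1
    simpa using h1
  exact ⟨N, Q, hG⟩

omit hq in
theorem abs_prod_coeff_zero {D : ℕ} (hD : ∑ i, (minpoly ℤ (π i)).natDegree = 2 * D) :
    |(∏ i, minpoly ℤ (π i)).coeff 0| = (q : ℤ) ^ D := by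
  have h : (|(∏ i, minpoly ℤ (π i)).coeff 0| : ℝ) = (q : ℝ) ^ D := by
    rw [Polynomial.coeff_zero_prod]
    push_cast
    rw [Finset.abs_prod, Finset.prod_congr rfl fun i _ => abs_coeff_zero (minpoly.monic (hint i)) (hweil i),
      Finset.prod_pow_eq_pow_sum, hD, pow_mul, Real.sq_sqrt (Nat.cast_nonneg _)]
  exact_mod_cast h

variable {D : ℕ} (hD : ∑ i, (minpoly ℤ (π i)).natDegree = 2 * D) (h : R2)
  (hh : X 0 ^ D * h - Polynomial.aeval (X 0 : R2) (∏ i, minpoly ℤ (π i)) ∈ Ideal.span {fv (q : ℤ)})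

include hD hh

/-- Modulo `q`, the polynomial `h(0, V)` has degree `D` with unit leading coefficient. -/
theorem ev0_unit_leading :
    (∀ k, D < k → (q : ℤ) ∣ (ev0 h).coeff k) ∧ IsUnit (((ev0 h).coeff D : ℤ) : ZMod q) := by
  let ψ : R2 →ₐ[ℤ] LaurentPolynomial ℤ :=
    MvPolynomial.aeval ![LaurentPolynomial.C (q : ℤ) * LaurentPolynomial.T (-1), LaurentPolynomial.T 1]
  have hψfv : ψ (fv (q : ℤ)) = 0 := by
    rw [fv, map_sub, map_mul]
    simp only [ψ, MvPolynomial.aeval_X, MvPolynomial.aeval_C, Matrix.cons_val_zero, Matrix.cons_val_one]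
    rw [mul_assoc, ← LaurentPolynomial.T_add]
    norm_num
  obtain ⟨c, hc⟩ := Ideal.mem_span_singleton'.mp hh
  have h1 := congrArg ψ hc
  rw [map_mul, hψfv, mul_zero, map_sub, map_mul, map_pow, ← Polynomial.aeval_algHom_apply, eq_comm, sub_eq_zero] at h1
  have hF : ψ (X 0) = LaurentPolynomial.C (q : ℤ) * LaurentPolynomial.T (-1) := by simp [ψ]
  have hCq : ∀ n : ℕ, LaurentPolynomial.C ((q : ℤ) ^ n) = LaurentPolynomial.C (q : ℤ) ^ n := fun n => map_pow _ _ _
  have h2 : ((q : ℤ) ^ D) • ψ h = ∑ j ∈ Finset.range (2 * D + 1),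
      AddMonoidAlgebra.single ((D : ℤ) - j) ((∏ i, minpoly ℤ (π i)).coeff j * (q : ℤ) ^ j) := by
    have h3 : (ψ (X 0)) ^ D * LaurentPolynomial.T (D : ℤ) = LaurentPolynomial.C ((q : ℤ) ^ D) := by
      rw [hF, mul_pow, ← hCq, LaurentPolynomial.T_pow, mul_assoc, ← LaurentPolynomial.T_add]
      simp
    calc ((q : ℤ) ^ D) • ψ h = (ψ (X 0)) ^ D * LaurentPolynomial.T (D : ℤ) * ψ h := by
          rw [h3, LaurentPolynomial.smul_eq_C_mul]
      _ = LaurentPolynomial.T (D : ℤ) * Polynomial.aeval (ψ (X 0)) (∏ i, minpoly ℤ (π i)) := by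
          rw [← h1]; ring
      _ = _ := by
          rw [Polynomial.aeval_eq_sum_range, Polynomial.natDegree_prod _ _ fun i _ => minpoly.ne_zero (hint i), hD,
            Finset.mul_sum]
          refine Finset.sum_congr rfl fun j _ => ?_
          rw [hF, mul_pow, ← hCq, LaurentPolynomial.T_pow, LaurentPolynomial.smul_eq_C_mul, ← mul_assoc (LaurentPolynomial.C _),
            ← map_mul, mul_left_comm, ← LaurentPolynomial.T_add, LaurentPolynomial.single_eq_C_mul_T]
          congr 2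
          ring
  have hcoef : ∀ k : ℕ, D ≤ k → (q : ℤ) ^ D * (ψ h).coeff (k : ℤ) =
      if k = D then (∏ i, minpoly ℤ (π i)).coeff 0 else 0 := by
    intro k hk
    have := congrArg (fun y => AddMonoidAlgebra.coeff y (k : ℤ)) h2
    simp only [AddMonoidAlgebra.coeff_smul, Finsupp.smul_apply, smul_eq_mul, AddMonoidAlgebra.coeff_sum,
      Finsupp.finsetSum_apply, AddMonoidAlgebra.coeff_single, Finsupp.single_apply] at this
    rw [this]
    split_ifs with hkD
    · rw [Finset.sum_eq_single 0]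
      · simp [hkD]
      · intro j _ hj
        rw [if_neg]
        omega
      · simp
    · refine Finset.sum_eq_zero fun j _ => ?_
      rw [if_neg]
      omega
  have hq0 : (q : ℤ) ^ D ≠ 0 := pow_ne_zero _ (by exact_mod_cast hq.ne')
  -- reduce modulo `q`
  let red : LaurentPolynomial ℤ →+* LaurentPolynomial (ZMod q) := AddMonoidAlgebra.mapRingHom ℤ (Int.castRingHom _)
  have hmod : red (ψ h) = Polynomial.toLaurent ((ev0 h).map (Int.castRingHom (ZMod q))) := by
    have e : red.comp ψ.toRingHom = (Polynomial.toLaurent.comp (Polynomial.mapRingHom (Int.castRingHom (ZMod q)))).comp ev0.toRingHom := by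
      refine MvPolynomial.ringHom_ext (fun r => ?_) fun i => ?_
      · simp [ψ, ev0]
      · have hqz : red (LaurentPolynomial.C (q : ℤ)) = 0 := by
          show AddMonoidAlgebra.map _ (AddMonoidAlgebra.single 0 (q : ℤ)) = 0
          rw [AddMonoidAlgebra.map_single]
          simp
        have hT : red (LaurentPolynomial.T 1) = LaurentPolynomial.T 1 := by
          show AddMonoidAlgebra.map _ (AddMonoidAlgebra.single 1 (1 : ℤ)) = _
          rw [AddMonoidAlgebra.map_single, LaurentPolynomial.T]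
          simp
        fin_cases i
        · show red (ψ (X 0)) = Polynomial.toLaurent ((ev0 (X 0)).map (Int.castRingHom (ZMod q)))
          rw [hF, map_mul, hqz, zero_mul, show ev0 (X 0) = 0 by simp [ev0], Polynomial.map_zero, map_zero]
        · show red (ψ (X 1)) = Polynomial.toLaurent ((ev0 (X 1)).map (Int.castRingHom (ZMod q)))
          rw [show ψ (X 1) = LaurentPolynomial.T 1 by simp [ψ], show ev0 (X 1) = Polynomial.X by simp [ev0],
            Polynomial.map_X, Polynomial.toLaurent_X, hT]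
    exact RingHom.congr_fun e h
  have hmk : ∀ k : ℕ, (((ψ h).coeff (k : ℤ) : ℤ) : ZMod q) = (((ev0 h).coeff k : ℤ) : ZMod q) := by
    intro k
    have e := congrArg (fun y => AddMonoidAlgebra.coeff y (k : ℤ)) hmod
    rw [LaurentPolynomial.coeff_toLaurent] at e
    have e' : (Finsupp.mapDomain Nat.castEmbedding
        ((ev0 h).map (Int.castRingHom (ZMod q))).toFinsupp.coeff) (Nat.castEmbedding k : ℤ) =
        ((ev0 h).map (Int.castRingHom (ZMod q))).coeff k :=
      Finsupp.mapDomain_apply Nat.castEmbedding.injective _ k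
    simp only [red, AddMonoidAlgebra.coe_mapRingHom] at e
    rw [Polynomial.coeff_map] at e'
    simpa using e.trans e'
  refine ⟨fun k hk => ?_, ?_⟩
  · have h0 := hcoef k hk.le
    rw [if_neg hk.ne', mul_eq_zero, or_iff_right hq0] at h0
    rw [← ZMod.intCast_zmod_eq_zero_iff_dvd, ← hmk, h0, Int.cast_zero]
  · have h0 := hcoef D le_rfl
    rw [if_pos rfl] at h0
    have h3 := congrArg abs h0
    rw [abs_prod_coeff_zero π hint hweil hD, abs_mul, abs_of_nonneg (by positivity : (0 : ℤ) ≤ (q : ℤ) ^ D),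
      mul_eq_left₀ hq0] at h3
    rw [← hmk]
    exact ((Int.isUnit_iff_abs_eq.mpr h3).map (Int.castRingHom (ZMod q)))

/-- `F` is a non-zero-divisor modulo `(F V - q, h)`. -/
theorem cancel_ideal (hq1 : 1 < q) (x : R2) (hx : X 0 * x ∈ Ideal.span {fv (q : ℤ), h}) :
    x ∈ Ideal.span {fv (q : ℤ), h} := by
  obtain ⟨y, z, hyz⟩ := Ideal.mem_span_pair.mp hx
  have h0 := congrArg ev0 hyz
  rw [map_add, map_mul, map_mul, map_mul, show ev0 (X 0) = 0 by simp [ev0], zero_mul,
    show ev0 (fv (q : ℤ)) = Polynomial.C (-(q : ℤ)) by simp [ev0, fv]] at h0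
  obtain ⟨hhi, hu⟩ := ev0_unit_leading π hint hq hweil hD h hh
  haveI : Fact (1 < q) := ⟨hq1⟩
  set hb := (ev0 h).map (Int.castRingHom (ZMod q)) with hb_def
  have hne : ((ev0 h).coeff D : ZMod q) ≠ 0 := hu.ne_zero
  have hdeg : hb.natDegree = D := by
    refine le_antisymm (Polynomial.natDegree_le_iff_coeff_eq_zero.mpr fun k hk => ?_) (Polynomial.le_natDegree_of_ne_zero (by simpa [hb_def] using hne))
    simpa [hb_def, ZMod.intCast_zmod_eq_zero_iff_dvd] using hhi k hk
  have hlead : IsUnit hb.leadingCoeff := by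
    rw [Polynomial.leadingCoeff, hdeg]; simpa [hb_def] using hu
  have hz0 : (ev0 z).map (Int.castRingHom (ZMod q)) = 0 := by
    have := congrArg (Polynomial.map (Int.castRingHom (ZMod q))) h0
    rw [Polynomial.map_add, Polynomial.map_mul, Polynomial.map_mul, Polynomial.map_zero, Polynomial.map_C] at this
    simp at this
    by_contra hne'
    have hl : ((ev0 z).map (Int.castRingHom (ZMod q))).leadingCoeff * hb.leadingCoeff ≠ 0 := fun h =>
      hne' (Polynomial.leadingCoeff_eq_zero.mp ((hlead.mul_left_eq_zero).mp h))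
    have := Polynomial.leadingCoeff_mul' hl
    simp_all
  obtain ⟨w, hw⟩ : Polynomial.C (q : ℤ) ∣ ev0 z := by
    refine Polynomial.C_dvd_iff_dvd_coeff _ _ |>.mpr fun k => ?_
    rw [← ZMod.intCast_zmod_eq_zero_iff_dvd]
    simpa using congrArg (fun r => Polynomial.coeff r k) hz0
  have hy0 : ev0 y = w * ev0 h := by
    refine mul_right_cancel₀ (Polynomial.C_ne_zero.mpr (by exact_mod_cast hq.ne' : (q : ℤ) ≠ 0)) ?_
    rw [hw, map_neg] at h0
    linear_combination -h0
  obtain ⟨z', hz'⟩ := exists_decomp z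
  obtain ⟨y', hy'⟩ := exists_decomp y
  obtain ⟨h', hh'⟩ := exists_decomp h
  rw [hw, map_mul, Polynomial.aeval_C] at hz'
  rw [hy0, map_mul] at hy'
  set W := Polynomial.aeval (X 1 : R2) w
  set H := Polynomial.aeval (X 1 : R2) (ev0 h)
  refine Ideal.mem_span_pair.mpr ⟨y' - W * h', W * X 1 + z', mul_left_cancel₀ (MvPolynomial.X_ne_zero (0 : Fin 2)) ?_⟩
  rw [← hyz, hy', hz']
  conv_rhs => rw [fv]
  rw [fv]
  simp only [algebraMap_int_eq, eq_intCast]
  rw [hh']
  push_cast [MvPolynomial.C_eq_coe_nat]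
  ring

theorem ker_eq (hinj : ∀ i j, minpoly ℤ (π i) = minpoly ℤ (π j) → i = j) (hq1 : 1 < q) (g : R2) :
    (∀ i, MvPolynomial.aeval ![π i, (q : K i) / π i] g = 0) ↔ g ∈ Ideal.span {fv (q : ℤ), h} := by
  have hle : Ideal.span {fv (q : ℤ)} ≤ Ideal.span {fv (q : ℤ), h} := Ideal.span_mono (by simp)
  constructor
  · intro hg
    obtain ⟨N, Q, hQ⟩ := exists_reduce_ker π hint hq hweil hinj g hg
    refine cancel_pow (cancel_ideal π hint hq hweil hD h hh hq1) N g ?_
    have := add_mem (hle hQ) (sub_mem (Ideal.mul_mem_left _ (Polynomial.aeval (X 0 : R2) Q * X 0 ^ D) (Ideal.subset_span (by simp : h ∈ ({fv (q : ℤ), h} : Set R2))))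
      (Ideal.mul_mem_left _ (Polynomial.aeval (X 0 : R2) Q) (hle hh)))
    convert this using 1
    rw [map_mul]
    ring
  · intro hg i
    have hpi := pi_ne_zero π hint hq hweil i
    have h0 : MvPolynomial.aeval ![π i, (q : K i) / π i] (fv (q : ℤ)) = 0 := by
      simp [fv, mul_div_cancel₀ _ hpi]
    obtain ⟨c, hc⟩ := Ideal.mem_span_singleton'.mp hh
    have h1 := congrArg (MvPolynomial.aeval ![π i, (q : K i) / π i]) hc
    rw [map_mul, h0, mul_zero, map_sub, ← Polynomial.aeval_algHom_apply, map_mul, map_pow, MvPolynomial.aeval_X] at h1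
    have hP : Polynomial.aeval (π i) (∏ j, minpoly ℤ (π j)) = 0 := by
      rw [map_prod]; exact Finset.prod_eq_zero (Finset.mem_univ i) (minpoly.aeval ℤ (π i))
    simp [hP, hpi] at h1
    obtain ⟨y, z, rfl⟩ := Ideal.mem_span_pair.mp hg
    rw [map_add, map_mul, map_mul, h0, h1, mul_zero, mul_zero, add_zero]

theorem isWeaklyRegular : RingTheory.Sequence.IsWeaklyRegular R2 [fv (q : ℤ), h] := by
  have hfv : fv (q : ℤ) ≠ 0 := by
    intro h0
    have := congrArg (MvPolynomial.eval ![0, 0]) h0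
    simp [fv] at this
    omega
  rw [RingTheory.Sequence.isWeaklyRegular_cons_iff, RingTheory.Sequence.isWeaklyRegular_cons_iff]
  suffices hkey : ∀ x : QuotSMulTop (fv (q : ℤ)) R2, h • x = 0 → x = 0 by
    exact ⟨fun a b hab => mul_left_cancel₀ hfv hab,
      fun a b hab => sub_eq_zero.mp (hkey _ (by rw [smul_sub, show h • a = h • b from hab, sub_self])),
      RingTheory.Sequence.IsWeaklyRegular.nil _ _⟩
  intro x hx
  obtain ⟨x, rfl⟩ := Submodule.Quotient.mk_surjective _ x
  rw [← Submodule.Quotient.mk_smul, Submodule.Quotient.mk_eq_zero, smul_eq_mul] at hx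
  rw [Submodule.Quotient.mk_eq_zero]
  have hmem : ∀ w : R2, w ∈ fv (q : ℤ) • (⊤ : Submodule R2 R2) ↔ w ∈ Ideal.span {fv (q : ℤ)} := fun w => by
    rw [← Submodule.ideal_span_singleton_smul, smul_eq_mul, Ideal.mul_top]
  rw [hmem] at hx ⊢
  have hqz : (q : ℤ) ≠ 0 := by exact_mod_cast hq.ne'
  obtain ⟨N, G, hG⟩ := exists_reduce (q : ℤ) x
  have h1 : Polynomial.aeval (X 0 : R2) ((∏ i, minpoly ℤ (π i)) * G) ∈ Ideal.span {fv (q : ℤ)} := by
    have := sub_mem (sub_mem (Ideal.mul_mem_left _ (X 0 ^ N * X 0 ^ D) hx) (Ideal.mul_mem_right (X 0 ^ N * x) _ hh))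
      (Ideal.mul_mem_left _ (Polynomial.aeval (X 0 : R2) (∏ i, minpoly ℤ (π i))) hG)
    convert this using 1
    rw [map_mul]
    ring
  have hG0 : G = 0 := ((mul_eq_zero.mp (eq_zero_of_aeval_mem _ h1)).resolve_left
    (Polynomial.monic_prod_of_monic _ _ fun i _ => minpoly.monic (hint i)).ne_zero)
  rw [hG0, map_zero, sub_zero] at hG
  exact cancel_pow (cancel_fv hqz) N x hG

end

end Groth.Agent.WeilNumLib

namespace Groth.Agent.WeilNumLib

open MvPolynomial

/-- Components of the map to the product of the fields. -/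
theorem apply_toProd {ι : Type} {K : ι → Type u} [∀ i, Field (K i)] (π : ∀ i, K i) (p e : ℕ)
    (g : MvPolynomial (Fin 2) ℤ) (i : ι) :
    (MvPolynomial.aeval ![fun i => π i, fun i => ((p : K i) ^ e) / π i] :
        MvPolynomial (Fin 2) ℤ →ₐ[ℤ] ((i : ι) → K i)) g i =
      MvPolynomial.aeval ![π i, (((p ^ e : ℕ)) : K i) / π i] g := by
  induction g using MvPolynomial.induction_on with
  | C a => simp
  | add f g hf hg => simp [hf, hg]
  | mul_X f n hf =>
    simp only [map_mul, MvPolynomial.aeval_X, Pi.mul_apply, hf]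
    fin_cases n <;> simp

end Groth.Agent.WeilNumLib
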