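import Groth.Agent.WeilNumLib.Order

/-!
# The polynomial `h` of an even family of Weil numbers exists
-/

set_option autoImplicit false
noncomputable section

universe u

namespace Groth.Agent.WeilNumLib

open Polynomial

/-- The product of the minimal polynomials satisfies the functional equation `X^n P(q/X) = a₀ P(X)`. -/
theorem prod_coeff_symm {ι : Type} [Fintype ι] {K : ι → Type u} [∀ i, Field (K i)] [∀ i, CharZero (K i)]
    (π : ∀ i, K i) (hint : ∀ i, IsIntegral ℤ (π i)) {q : ℕ}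
    (hweil : ∀ i, ∀ z ∈ (minpoly ℤ (π i)).aroots ℂ, ‖z‖ = Real.sqrt q)
    (hinj : ∀ i j, minpoly ℤ (π i) = minpoly ℤ (π j) → i = j) :
    ∀ j ≤ (∏ i, minpoly ℤ (π i)).natDegree,
      (∏ i, minpoly ℤ (π i)).coeff j * (q : ℤ) ^ j =
        (∏ i, minpoly ℤ (π i)).coeff 0 * (∏ i, minpoly ℤ (π i)).coeff ((∏ i, minpoly ℤ (π i)).natDegree - j) := by
  set P := ∏ i, minpoly ℤ (π i) with hPdef
  have hP : P.Monic := monic_prod_of_monic _ _ fun i _ => minpoly.monic (hint i)
  let Q : ℤ[X] := ∑ j ∈ Finset.range (P.natDegree + 1), C (P.coeff j * (q : ℤ) ^ j) * X ^ (P.natDegree - j)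
  have hdvd : P ∣ Q := by
    refine Finset.prod_dvd_of_isRelPrime (fun i _ j _ hij => ?_) fun i _ => ?_
    · refine (minpoly.irreducible (hint i)).isRelPrime_iff_not_dvd.mpr fun h => hij (hinj i j ?_)
      exact eq_of_monic_of_associated (minpoly.monic (hint i)) (minpoly.monic (hint j))
        ((minpoly.irreducible (hint i)).associated_of_dvd (minpoly.irreducible (hint j)) h)
    obtain ⟨z, hz⟩ : ∃ z : ℂ, aeval z (minpoly ℤ (π i)) = 0 :=
      IsAlgClosed.exists_aeval_eq_zero ℂ _ (degree_ne_of_natDegree_ne (minpoly.natDegree_pos (hint i)).ne')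
    have hzint : IsIntegral ℤ z := ⟨_, minpoly.monic (hint i), hz⟩
    have hmin : minpoly ℤ z = minpoly ℤ (π i) :=
      eq_of_monic_of_associated (minpoly.monic hzint) (minpoly.monic (hint i))
        (((minpoly.irreducible hzint).dvd_irreducible_iff_associated (minpoly.irreducible (hint i))).mp
          (minpoly.isIntegrallyClosed_dvd hzint hz))
    rw [← hmin]
    refine minpoly.isIntegrallyClosed_dvd hzint ?_
    have hzz : (q : ℂ) = z * (starRingEnd ℂ) z := by
      rw [Complex.mul_conj', hweil i z (mem_aroots.mpr ⟨minpoly.ne_zero (hint i), hz⟩)]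
      norm_cast
      rw [Real.sq_sqrt (Nat.cast_nonneg _)]
    have e : aeval z Q = z ^ P.natDegree * aeval ((starRingEnd ℂ) z) P := by
      rw [map_sum, aeval_eq_sum_range, Finset.mul_sum]
      refine Finset.sum_congr rfl fun j hj => ?_
      rw [map_mul, aeval_C, map_pow, aeval_X, zsmul_eq_mul]
      simp only [algebraMap_int_eq, eq_intCast, Int.cast_mul, Int.cast_pow, Int.cast_natCast]
      rw [hzz, mul_pow, ← Nat.add_sub_cancel' (Finset.mem_range_succ_iff.mp hj), Nat.add_sub_cancel_left, pow_add]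
      ring
    rw [e, show (starRingEnd ℂ) z = (Complex.conjAe.toAlgHom.restrictScalars ℤ) z from rfl, aeval_algHom_apply,
      hPdef, map_prod, Finset.prod_eq_zero (f := fun j => aeval z (minpoly ℤ (π j))) (Finset.mem_univ i) hz, map_zero, mul_zero]
  have hQdeg : Q.natDegree ≤ P.natDegree := natDegree_sum_le_of_forall_le _ _ fun j _ =>
    (natDegree_C_mul_X_pow_le _ _).trans (Nat.sub_le _ _)
  have hQc : ∀ j ≤ P.natDegree, Q.coeff (P.natDegree - j) = P.coeff j * (q : ℤ) ^ j := by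
    intro j hj
    simp only [Q, finsetSum_coeff, coeff_C_mul_X_pow]
    rw [Finset.sum_eq_single j]
    · rw [if_pos rfl]
    · intro i hi hij
      rw [if_neg]
      intro h
      have := Finset.mem_range_succ_iff.mp hi
      omega
    · intro h
      exact absurd (Finset.mem_range_succ_iff.mpr hj) h
  obtain ⟨c, hc⟩ := hdvd
  have hcC : c = C (c.coeff 0) := by
    refine eq_C_of_natDegree_eq_zero ?_
    by_cases hc0 : c = 0
    · simp [hc0]
    have := natDegree_mul hP.ne_zero hc0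
    rw [← hc] at this
    omega
  have hc0 : c.coeff 0 = P.coeff 0 := by
    have h := hQc 0 (Nat.zero_le _)
    rw [hc, hcC, Nat.sub_zero, coeff_mul_C, hP.coeff_natDegree, one_mul, pow_zero, mul_one] at h
    exact h
  intro j hj
  rw [← hQc j hj, hc, hcC, coeff_mul_C, hc0, mul_comm]

end Groth.Agent.WeilNumLib

namespace Groth.Agent.WeilNumLib

open MvPolynomial

/-- Existence of `h` with `F^D h ≡ P_w(F)` modulo `F V - q`. -/
theorem exists_h {ι : Type} [Fintype ι] {K : ι → Type u} [∀ i, Field (K i)] [∀ i, CharZero (K i)]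
    (π : ∀ i, K i) (hint : ∀ i, IsIntegral ℤ (π i)) {q : ℕ} (hq : 0 < q)
    (hweil : ∀ i, ∀ z ∈ (minpoly ℤ (π i)).aroots ℂ, ‖z‖ = Real.sqrt q)
    (hinj : ∀ i j, minpoly ℤ (π i) = minpoly ℤ (π j) → i = j) {D : ℕ}
    (hD : ∑ i, (minpoly ℤ (π i)).natDegree = 2 * D) :
    ∃ h : MvPolynomial (Fin 2) ℤ,
      X 0 ^ D * h - Polynomial.aeval (X 0 : MvPolynomial (Fin 2) ℤ) (∏ i, minpoly ℤ (π i)) ∈ Ideal.span {fv (q : ℤ)} := by
  set P := ∏ i, minpoly ℤ (π i) with hPdef
  have hn : P.natDegree = 2 * D := by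
    rw [hPdef, Polynomial.natDegree_prod _ _ fun i _ => minpoly.ne_zero (hint i), hD]
  have hs := prod_coeff_symm π hint hweil hinj
  rw [← hPdef, hn] at hs
  obtain ⟨ε, hε⟩ : ∃ ε : ℤ, P.coeff 0 = ε * (q : ℤ) ^ D := by
    have h := abs_prod_coeff_zero π hint hweil hD
    rcases abs_choice (P.coeff 0) with h1 | h1
    · exact ⟨1, by rw [one_mul, ← h, ← hPdef]; exact h1.symm⟩
    · exact ⟨-1, by rw [neg_one_mul, ← h, ← hPdef, h1, neg_neg]⟩
  have hlow : ∀ j < D, P.coeff j = ε * P.coeff (2 * D - j) * (q : ℤ) ^ (D - j) := by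
    intro j hj
    refine mul_right_cancel₀ (pow_ne_zero j (by exact_mod_cast hq.ne' : (q : ℤ) ≠ 0)) ?_
    rw [hs j (by omega), hε, mul_assoc _ ((q : ℤ) ^ (D - j)), ← pow_add, Nat.sub_add_cancel hj.le]
    ring
  refine ⟨(∑ j ∈ Finset.range D, C (ε * P.coeff (2 * D - j)) * X 1 ^ (D - j)) +
    ∑ j ∈ Finset.Ico D (2 * D + 1), C (P.coeff j) * X 0 ^ (j - D), ?_⟩
  have hP : Polynomial.aeval (X 0 : MvPolynomial (Fin 2) ℤ) P =
      (∑ j ∈ Finset.range D, C (P.coeff j) * X 0 ^ j) + ∑ j ∈ Finset.Ico D (2 * D + 1), C (P.coeff j) * X 0 ^ j := by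
    rw [Finset.sum_range_add_sum_Ico _ (by omega), Polynomial.aeval_eq_sum_range, hn]
    exact Finset.sum_congr rfl fun j _ => MvPolynomial.smul_eq_C_mul _ _
  rw [hP, mul_add, add_sub_add_comm, Finset.mul_sum, Finset.mul_sum]
  refine add_mem ?_ ?_
  · rw [← Finset.sum_sub_distrib]
    refine Submodule.sum_mem _ fun j hj => ?_
    have hj := Finset.mem_range.mp hj
    obtain ⟨c, hc⟩ := sub_dvd_pow_sub_pow (X 0 * X 1 : MvPolynomial (Fin 2) ℤ) (C (q : ℤ)) (D - j)
    refine Ideal.mem_span_singleton'.mpr ⟨C (ε * P.coeff (2 * D - j)) * X 0 ^ j * c, ?_⟩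
    rw [fv, mul_assoc, mul_comm c, ← hc, hlow j hj, mul_pow, ← map_pow C, map_mul C (ε * P.coeff (2 * D - j)) ((q : ℤ) ^ (D - j)),
      show (X 0 : MvPolynomial (Fin 2) ℤ) ^ D = X 0 ^ j * X 0 ^ (D - j) by
        rw [← pow_add, Nat.add_sub_cancel' hj.le]]
    ring
  · rw [← Finset.sum_sub_distrib, Finset.sum_eq_zero fun j hj => ?_]
    · exact zero_mem _
    · rw [mul_left_comm, ← pow_add, Nat.add_sub_cancel' (Finset.mem_Ico.mp hj).1, sub_self]

end Groth.Agent.WeilNumLib
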